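import Groth.Agent.Synt29.OmegaAffine

/-!
# The affine description of a sheaf of differentials carries `d` to the universal derivation
-/

set_option autoImplicit false

universe u

open CategoryTheory CategoryTheory.Limits AlgebraicGeometry TopologicalSpace Opposite

namespace Groth.Agent.SymOmega

open Groth.Agent.Synt29.OmegaStalk

theorem exists_linearEquiv_D {X Y : Scheme.{u}} {f : X ⟶ Y} {Ω : X.Modules}
    {d : OmegaSh.Der f Ω} (hd : OmegaSh.IsUniversal d) {U : X.Opens} (hU : IsAffineOpen U)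
    {V : Y.Opens} (hV : IsAffineOpen V) (e : U ≤ f ⁻¹ᵁ V) :
    letI := (f.appLE V U e).hom.toAlgebra
    ∃ l : Γ(Ω, U) ≃ₗ[Γ(X, U)] Ω[Γ(X, U)⁄Γ(Y, V)],
      ∀ b, l (d.app U b) = KaehlerDifferential.D Γ(Y, V) Γ(X, U) b := by
  let _ := (f.appLE V U e).hom.toAlgebra
  obtain ⟨i, hi⟩ := exists_iso_chart hd hU hV e
  let t := tilde.isoTop (R := Γ(X, U)) (ModuleCat.of Γ(X, U) (Ω[Γ(X, U)⁄Γ(Y, V)]))
  refine ⟨(QCoh.chartEquiv hU Ω).trans (((moduleSpecΓFunctor.mapIso i).trans t.symm).toLinearEquiv), fun b => ?_⟩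
  have h1 : QCoh.toChart hU Ω (d.app U b) =
      (restrictDer hU.fromSpec d).app ⊤ (OmAff.toΓ Γ(X, U) b) := by
    show Ω.presheaf.map (homOfLE (QCoh.image_top_fromSpec hU).le).op (d.app U b) =
      d.app (hU.fromSpec ''ᵁ ⊤) ((hU.fromSpec.appIso ⊤).inv (OmAff.toΓ Γ(X, U) b))
    rw [show (hU.fromSpec.appIso ⊤).inv (OmAff.toΓ Γ(X, U) b) =
      X.presheaf.map (homOfLE (QCoh.image_top_fromSpec hU).le).op b from
        QCoh.chartScalar_fromSpec hU (QCoh.image_top_fromSpec hU).le b]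
    exact (app_res Ω d (homOfLE (QCoh.image_top_fromSpec hU).le) b).symm
  show t.inv (moduleSpecΓFunctor.map i.hom (QCoh.toChart hU Ω (d.app U b))) = _
  rw [h1]
  refine (congrArg t.inv (hi b)).trans ?_
  show t.inv (t.hom (KaehlerDifferential.D Γ(Y, V) Γ(X, U) b)) = _
  exact congr($(t.hom_inv_id) (KaehlerDifferential.D Γ(Y, V) Γ(X, U) b))

end Groth.Agent.SymOmega
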