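import Groth.Prelude.Def_RelSpec
import Groth.Prelude.Def_Omega3
import Groth.Agent.RelSpecX.Gamma
import Groth.Agent.QCoh.FT

/-!
# Derivations out of a quasi-coherent algebra via square zero extensions
-/

set_option autoImplicit false

universe u

open CategoryTheory CategoryTheory.Limits AlgebraicGeometry TopologicalSpace Opposite

namespace Groth.Agent.SymOmega

/-- The trivial square zero extension of a commutative ring by a module. -/
structure SqExt (R M : Type u) where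
  fst : R
  snd : M

namespace SqExt

variable {R M R' M' : Type u} [CommRing R] [AddCommGroup M] [Module R M]

@[ext] theorem ext {x y : SqExt R M} (h1 : x.fst = y.fst) (h2 : x.snd = y.snd) : x = y := by
  cases x; cases y; cases h1; cases h2; rfl

noncomputable instance : CommRing (SqExt R M) where
  add x y := ⟨x.fst + y.fst, x.snd + y.snd⟩
  zero := ⟨0, 0⟩
  neg x := ⟨-x.fst, -x.snd⟩
  mul x y := ⟨x.fst * y.fst, x.fst • y.snd + y.fst • x.snd⟩
  one := ⟨1, 0⟩
  nsmul n x := ⟨n • x.fst, n • x.snd⟩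
  nsmul_zero x := ext (zero_nsmul _) (zero_nsmul _)
  nsmul_succ n x := ext (succ_nsmul _ _) (succ_nsmul _ _)
  zsmul n x := ⟨n • x.fst, n • x.snd⟩
  zsmul_zero' x := ext (zero_zsmul _) (zero_zsmul _)
  zsmul_succ' n x := ext (SubNegMonoid.zsmul_succ' n _) (SubNegMonoid.zsmul_succ' n _)
  zsmul_neg' n x := ext (SubNegMonoid.zsmul_neg' n _) (SubNegMonoid.zsmul_neg' n _)
  add_assoc x y z := ext (add_assoc _ _ _) (add_assoc _ _ _)
  zero_add x := ext (zero_add _) (zero_add _)
  add_zero x := ext (add_zero _) (add_zero _)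
  add_comm x y := ext (add_comm _ _) (add_comm _ _)
  neg_add_cancel x := ext (neg_add_cancel _) (neg_add_cancel _)
  mul_comm x y := ext (mul_comm _ _) (add_comm _ _)
  mul_assoc x y z := ext (mul_assoc _ _ _) (by
    show (x.fst * y.fst) • z.snd + z.fst • (x.fst • y.snd + y.fst • x.snd) =
      x.fst • (y.fst • z.snd + z.fst • y.snd) + (y.fst * z.fst) • x.snd
    simp only [smul_add, smul_smul, mul_comm]
    abel)
  one_mul x := ext (one_mul _) (by
    show (1 : R) • x.snd + x.fst • (0 : M) = x.snd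
    rw [one_smul, smul_zero, add_zero])
  mul_one x := ext (mul_one _) (by
    show x.fst • (0 : M) + (1 : R) • x.snd = x.snd
    rw [one_smul, smul_zero, zero_add])
  zero_mul x := ext (zero_mul _) (by
    show (0 : R) • x.snd + x.fst • (0 : M) = 0
    rw [zero_smul, smul_zero, add_zero])
  mul_zero x := ext (mul_zero _) (by
    show x.fst • (0 : M) + (0 : R) • x.snd = 0
    rw [zero_smul, smul_zero, add_zero])
  left_distrib x y z := ext (left_distrib _ _ _) (by
    show x.fst • (y.snd + z.snd) + (y.fst + z.fst) • x.snd =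
      (x.fst • y.snd + y.fst • x.snd) + (x.fst • z.snd + z.fst • x.snd)
    rw [smul_add, add_smul]; abel)
  right_distrib x y z := ext (right_distrib _ _ _) (by
    show (x.fst + y.fst) • z.snd + z.fst • (x.snd + y.snd) =
      (x.fst • z.snd + z.fst • x.snd) + (y.fst • z.snd + z.fst • y.snd)
    rw [smul_add, add_smul]; abel)

/-- The inclusion of the ring. -/
def inl : R →+* SqExt R M where
  toFun r := ⟨r, 0⟩
  map_zero' := rfl
  map_one' := rfl
  map_add' _ _ := ext rfl (add_zero _).symm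
  map_mul' a b := ext rfl (by
    show (0 : M) = a • (0 : M) + b • (0 : M)
    rw [smul_zero, smul_zero, add_zero])

theorem inl_mul (r : R) (x : SqExt R M) : inl r * x = ⟨r * x.fst, r • x.snd⟩ :=
  ext rfl (by
    show r • x.snd + x.fst • (0 : M) = r • x.snd
    rw [smul_zero, add_zero])

variable [CommRing R'] [AddCommGroup M'] [Module R' M'] (f : R →+* R') (g : M →+ M')
  (hg : ∀ r m, g (r • m) = f r • g m)

/-- Functoriality. -/
def map : SqExt R M →+* SqExt R' M' where
  toFun x := ⟨f x.fst, g x.snd⟩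
  map_zero' := ext (map_zero f) (map_zero g)
  map_one' := ext (map_one f) (map_zero g)
  map_add' _ _ := ext (map_add f _ _) (map_add g _ _)
  map_mul' x y := ext (map_mul f _ _) (by
    show g (x.fst • y.snd + y.fst • x.snd) = f x.fst • g y.snd + f y.fst • g x.snd
    rw [map_add, hg, hg])

theorem isLocalization_map (a : R)
    (hloc : letI := f.toAlgebra; IsLocalization.Away a R')
    (hsurj : ∀ y : M', ∃ (n : ℕ) (x : M), f a ^ n • y = g x)
    (hinj : ∀ x : M, g x = 0 → ∃ n : ℕ, a ^ n • x = 0) :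
    letI := (map f g hg).toAlgebra
    IsLocalization.Away (inl a : SqExt R M) (SqExt R' M') := by
  letI := f.toAlgebra
  letI := (map f g hg).toAlgebra
  haveI : IsLocalization.Away a R' := hloc
  have hmap : ∀ n : ℕ, map f g hg ((inl a : SqExt R M) ^ n) = inl (f a ^ n) := fun n => by
    rw [← map_pow, ← map_pow]
    exact ext rfl (map_zero g)
  refine (isLocalization_iff _ _).mpr ⟨?_, fun z => ?_, fun {x y} hxy => ?_⟩
  · rintro ⟨_, n, rfl⟩
    show IsUnit (map f g hg ((inl a : SqExt R M) ^ n))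
    rw [hmap]
    exact ((IsLocalization.Away.algebraMap_isUnit a (S := R')).pow n).map inl
  · obtain ⟨⟨r, ⟨_, n, rfl⟩⟩, hr⟩ := IsLocalization.surj (Submonoid.powers a) z.fst
    obtain ⟨m, x, hx⟩ := hsurj z.snd
    refine ⟨(⟨a ^ m * r, a ^ n • x⟩, ⟨inl a ^ (n + m), n + m, rfl⟩), ?_⟩
    show z * map f g hg ((inl a : SqExt R M) ^ (n + m)) = map f g hg ⟨a ^ m * r, a ^ n • x⟩
    rw [hmap, mul_comm, inl_mul]
    have hr' : z.fst * f a ^ n = f r := by rw [← map_pow]; exact hr
    refine ext ?_ ?_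
    · show f a ^ (n + m) * z.fst = f (a ^ m * r)
      rw [map_mul, map_pow, ← hr', pow_add]; ring
    · show f a ^ (n + m) • z.snd = g (a ^ n • x)
      rw [hg, map_pow, pow_add, mul_smul, hx]
  · have h1 : f x.fst = f y.fst := congrArg SqExt.fst hxy
    have h2 : g x.snd = g y.snd := congrArg SqExt.snd hxy
    obtain ⟨⟨_, n, rfl⟩, hn⟩ := IsLocalization.exists_of_eq (M := Submonoid.powers a) (S := R') h1
    obtain ⟨m, hm⟩ := hinj (x.snd - y.snd) (by rw [map_sub, h2, sub_self])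
    refine ⟨⟨inl a ^ (n + m), n + m, rfl⟩, ?_⟩
    show (inl a : SqExt R M) ^ (n + m) * x = inl a ^ (n + m) * y
    rw [← map_pow, inl_mul, inl_mul]
    refine ext ?_ ?_
    · show a ^ (n + m) * x.fst = a ^ (n + m) * y.fst
      rw [add_comm, pow_add, mul_assoc, mul_assoc]
      exact congrArg (a ^ m * ·) hn
    · show a ^ (n + m) • x.snd = a ^ (n + m) • y.snd
      rw [← sub_eq_zero, ← smul_sub, pow_add, mul_smul, hm, smul_zero]

end SqExt

section Sheaf

variable {S X : Scheme.{u}} (p : X ⟶ S) (N : X.Modules)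

/-- `U ↦ O(p⁻¹U) ⋉ N(p⁻¹U)`. -/
noncomputable def sqPresheaf : TopCat.Presheaf CommRingCat.{u} S.carrier where
  obj U := CommRingCat.of (SqExt Γ(X, p ⁻¹ᵁ U.unop) Γ(N, p ⁻¹ᵁ U.unop))
  map {U V} i := CommRingCat.ofHom (SqExt.map (X.presheaf.map ((Opens.map p.base).map i.unop).op).hom
    (N.presheaf.map ((Opens.map p.base).map i.unop).op).hom (fun r m => Scheme.Modules.map_smul _ _ r m))
  map_id U := by
    ext x
    · exact congr($(X.presheaf.map_id _) x.fst)
    · exact congr($(N.presheaf.map_id _) x.snd)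
  map_comp {U V W} i j := by
    ext x
    · exact congr($(X.presheaf.map_comp ((Opens.map p.base).map i.unop).op ((Opens.map p.base).map j.unop).op) x.fst)
    · exact congr($(N.presheaf.map_comp ((Opens.map p.base).map i.unop).op ((Opens.map p.base).map j.unop).op) x.snd)

theorem isSheaf_sqPresheaf : (sqPresheaf p N).IsSheaf := by
  rw [TopCat.Presheaf.isSheaf_iff_isSheafUniqueGluing]
  intro ι U sf hsf
  have hcov : p ⁻¹ᵁ iSup U ≤ ⨆ i, p ⁻¹ᵁ U i := fun x hx => by
    obtain ⟨i, hi⟩ := Opens.mem_iSup.1 hx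
    exact Opens.mem_iSup.2 ⟨i, hi⟩
  have hle : ∀ i, p ⁻¹ᵁ U i ≤ p ⁻¹ᵁ iSup U := fun i => p.preimage_mono (le_iSup U i)
  let NS : TopCat.Sheaf AddCommGrpCat.{u} X := ⟨N.presheaf, N.isSheaf⟩
  obtain ⟨a, ha, hau⟩ := X.sheaf.existsUnique_gluing' (fun i => p ⁻¹ᵁ U i) (p ⁻¹ᵁ iSup U)
    (fun i => homOfLE (hle i)) hcov (fun i => (sf i).fst) (fun i j => congrArg SqExt.fst (hsf i j))
  obtain ⟨m, hm, hmu⟩ := NS.existsUnique_gluing' (fun i => p ⁻¹ᵁ U i) (p ⁻¹ᵁ iSup U)
    (fun i => homOfLE (hle i)) hcov (fun i => (sf i).snd) (fun i j => congrArg SqExt.snd (hsf i j))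
  exact ⟨⟨a, m⟩, fun i => SqExt.ext (ha i) (hm i), fun s hs =>
    SqExt.ext (hau s.fst fun i => congrArg SqExt.fst (hs i)) (hmu s.snd fun i => congrArg SqExt.snd (hs i))⟩

variable [IsAffineHom p]

/-- `p_*(O ⋉ N)` as a quasi-coherent algebra. -/
noncomputable def sqAlg (hN : Coh.IsQCoh N) : RelSpec.QCAlg S where
  presheaf := sqPresheaf p N
  isSheaf := isSheaf_sqPresheaf p N
  str :=
    { app := fun U => CommRingCat.ofHom (SqExt.inl.comp (p.app U.unop).hom)
      naturality := fun U V i => by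
        ext r
        refine SqExt.ext ?_ ?_
        · exact congr($(p.c.naturality i) r)
        · exact (map_zero (N.presheaf.map ((Opens.map p.base).map i.unop).op).hom).symm }
  isQC := fun U hU r => by
    let j : p ⁻¹ᵁ S.basicOpen r ⟶ p ⁻¹ᵁ U := homOfLE (p.preimage_mono (S.basicOpen_le r))
    have hW : IsAffineOpen (p ⁻¹ᵁ U) := hU.preimage p
    have he : p ⁻¹ᵁ S.basicOpen r = X.basicOpen (p.app U r) := p.preimage_basicOpen r
    refine SqExt.isLocalization_map (X.presheaf.map j.op).hom (N.presheaf.map j.op).hom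
      (fun r m => Scheme.Modules.map_smul _ _ r m) (p.app U r) ?_ (fun y => ?_) (fun x hx => ?_)
    · exact RelSpec.QCAlg.isQC_pushforward p U hU r
    · have key : ∀ (D : X.Opens) (_ : D = X.basicOpen (p.app U r)) (hD : D ≤ p ⁻¹ᵁ U) (y : Γ(N, D)),
          ∃ (n : ℕ) (x : Γ(N, p ⁻¹ᵁ U)),
            X.presheaf.map (homOfLE hD).op (p.app U r) ^ n • y = N.presheaf.map (homOfLE hD).op x := by
        rintro _ rfl hD y
        obtain ⟨n, t, ht⟩ := QCoh.exists_pow_smul_eq_map hN hW (p.app U r) y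
        exact ⟨n, t, ht.symm⟩
      exact key _ he j.le y
    · have key : ∀ (D : X.Opens) (_ : D = X.basicOpen (p.app U r)) (hD : D ≤ p ⁻¹ᵁ U),
          N.presheaf.map (homOfLE hD).op x = 0 → ∃ n : ℕ, p.app U r ^ n • x = 0 := by
        rintro _ rfl hD h
        exact QCoh.exists_pow_smul_eq_zero hN hW (p.app U r) x h
      exact key _ he j.le hx

end Sheaf

section Der

variable {S : Scheme.{u}} {A : RelSpec.QCAlg S}

/-- `O(π⁻¹U) → A(U)` is bijective. -/
theorem gammaMap_bijective (U : S.Opens) : Function.Bijective (A.gammaMap.app (op U)) :=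
  haveI : IsIso A.gammaMap := RelSpecX.isIso_gammaMap A
  haveI : IsIso (A.gammaMap.app (op U)) := NatIso.isIso_app_of_isIso A.gammaMap (op U)
  ConcreteCategory.bijective_of_isIso (A.gammaMap.app (op U))

variable (N : A.spec.Modules)

/-- A family of derivations on inverse images of opens. -/
def IsDerFamily (δ : ∀ U : S.Opens, Γ(A.spec, A.π ⁻¹ᵁ U) →+ Γ(N, A.π ⁻¹ᵁ U)) : Prop :=
  (∀ (U : S.Opens) a b, δ U (a * b) = a • δ U b + b • δ U a) ∧
  (∀ (U : S.Opens) (c : Γ(S, U)), δ U (A.π.app U c) = 0) ∧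
  ∀ (U V : S.Opens) (h : V ≤ U) a,
    δ V (A.spec.presheaf.map (homOfLE (A.π.preimage_mono h)).op a) =
      N.presheaf.map (homOfLE (A.π.preimage_mono h)).op (δ U a)

variable {E : S.Modules} {j : E ⟶ A.toModule}

theorem exists_derFamily (hA : RelSpec.IsSymAlg E A j) (hN : Coh.IsQCoh N)
    (u : E ⟶ (Scheme.Modules.pushforward A.π).obj N) :
    ∃ δ, IsDerFamily N δ ∧ ∀ (U : S.Opens) (t : Γ(E, U)) (t' : Γ(A.spec, A.π ⁻¹ᵁ U)),
      A.gammaMap.app (op U) t' = j.app U t → δ U t' = u.app U t := by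
  let B := sqAlg A.π N hN
  let D := RelSpec.QCAlg.directImage A.π
  haveI hI : IsIso A.gammaMap := RelSpecX.isIso_gammaMap A
  let g : A.presheaf ⟶ D.presheaf := @inv _ _ _ _ A.gammaMap hI
  have hgg : ∀ (U : S.Opens) (a : Γ(A.spec, A.π ⁻¹ᵁ U)), g.app (op U) (A.gammaMap.app (op U) a) = a :=
    fun U a => congr($(congrArg (fun k => NatTrans.app k (op U)) (@IsIso.hom_inv_id _ _ _ _ A.gammaMap hI)) a)
  let gH : A ⟶ D := ⟨g, by
    show A.str ≫ g = A.π.c
    exact (@IsIso.comp_inv_eq _ _ _ _ _ A.gammaMap hI _ _).2 A.π_c_gammaMap.symm⟩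
  let φ₁ : E ⟶ D.toModule := j ≫ RelSpec.QCAlg.Hom.toModuleMap gH
  let φ : E ⟶ B.toModule := ⟨PresheafOfModules.homMk
    { app := fun U => AddCommGrpCat.ofHom (AddMonoidHom.mk'
        (fun t => (⟨φ₁.app U.unop t, u.app U.unop t⟩ :
          SqExt Γ(A.spec, A.π ⁻¹ᵁ U.unop) Γ(N, A.π ⁻¹ᵁ U.unop)))
        (fun a b => SqExt.ext (map_add (φ₁.app U.unop).hom a b) (map_add (u.app U.unop).hom a b)))
      naturality := fun U V i => by
        ext t
        refine SqExt.ext ?_ ?_
        · exact congr($(φ₁.mapPresheaf.naturality i) t)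
        · exact congr($(u.mapPresheaf.naturality i) t) }
    fun U r t => by
      show (⟨φ₁.app U.unop ((show Γ(S, U.unop) from r) • t), u.app U.unop ((show Γ(S, U.unop) from r) • t)⟩ :
          SqExt Γ(A.spec, A.π ⁻¹ᵁ U.unop) Γ(N, A.π ⁻¹ᵁ U.unop)) = SqExt.inl (A.π.app U.unop r) * ⟨_, _⟩
      rw [SqExt.inl_mul]
      exact SqExt.ext (Scheme.Modules.Hom.app_smul φ₁ r t) (Scheme.Modules.Hom.app_smul u r t)⟩
  obtain ⟨ψ, hψ, -⟩ := hA B φ
  -- the first component
  let fst : B ⟶ D :=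
    ⟨{ app := fun U => CommRingCat.ofHom
        ({ toFun := fun x => x.fst, map_one' := rfl, map_mul' := fun _ _ => rfl, map_zero' := rfl,
           map_add' := fun _ _ => rfl } : SqExt Γ(A.spec, A.π ⁻¹ᵁ U.unop) Γ(N, A.π ⁻¹ᵁ U.unop) →+* Γ(A.spec, A.π ⁻¹ᵁ U.unop))
       naturality := fun U V i => rfl }, rfl⟩
  have hfst : ψ ≫ fst = gH := by
    refine (hA D φ₁).unique ?_ rfl
    refine Scheme.Modules.hom_ext _ _ fun U => ?_
    ext t
    exact congrArg SqExt.fst congr($(congrArg (fun k => Scheme.Modules.Hom.app k U) hψ) t)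
  let Ψ : ∀ U : S.Opens, Γ(A.spec, A.π ⁻¹ᵁ U) →+* SqExt Γ(A.spec, A.π ⁻¹ᵁ U) Γ(N, A.π ⁻¹ᵁ U) :=
    fun U => (ψ.hom.app (op U)).hom.comp (A.gammaMap.app (op U)).hom
  have h1 : ∀ U a, (Ψ U a).fst = a := fun U a =>
    congr($(congrArg (fun k => RelSpec.QCAlg.Hom.hom k |>.app (op U)) hfst) (A.gammaMap.app (op U) a)).trans (hgg U a)
  let δ : ∀ U : S.Opens, Γ(A.spec, A.π ⁻¹ᵁ U) →+ Γ(N, A.π ⁻¹ᵁ U) := fun U =>
    AddMonoidHom.mk' (fun a => (Ψ U a).snd) (fun a b => congrArg SqExt.snd (map_add (Ψ U) a b))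
  refine ⟨δ, ⟨fun U a b => ?_, fun U c => ?_, fun U V h a => ?_⟩, fun U t t' ht => ?_⟩
  · show (Ψ U (a * b)).snd = a • (Ψ U b).snd + b • (Ψ U a).snd
    refine (congrArg SqExt.snd (map_mul (Ψ U) a b)).trans ?_
    show (Ψ U a).fst • (Ψ U b).snd + (Ψ U b).fst • (Ψ U a).snd = _
    rw [h1 U a, h1 U b]
  · refine congrArg SqExt.snd (?_ : Ψ U (A.π.app U c) = SqExt.inl (A.π.app U c))
    show ψ.hom.app (op U) (A.gammaMap.app (op U) (A.π.app U c)) = B.str.app (op U) c
    rw [← ψ.comm, show A.gammaMap.app (op U) (A.π.app U c) = A.str.app (op U) c from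
      congr($(congrArg (fun k => NatTrans.app k (op U)) A.π_c_gammaMap) c)]
    rfl
  · refine congrArg SqExt.snd (?_ : Ψ V _ = (sqPresheaf A.π N).map (homOfLE h).op (Ψ U a))
    refine (congrArg (ψ.hom.app (op V)).hom congr($(A.gammaMap.naturality (homOfLE h).op) a)).trans ?_
    exact congr($(ψ.hom.naturality (homOfLE h).op) (A.gammaMap.app (op U) a))
  · show (ψ.hom.app (op U) (A.gammaMap.app (op U) t')).snd = _
    rw [ht]
    exact congrArg SqExt.snd congr($(congrArg (fun k => Scheme.Modules.Hom.app k U) hψ) t)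

theorem derFamily_unique (hA : RelSpec.IsSymAlg E A j) (hN : Coh.IsQCoh N)
    {δ δ' : ∀ U : S.Opens, Γ(A.spec, A.π ⁻¹ᵁ U) →+ Γ(N, A.π ⁻¹ᵁ U)}
    (hδ : IsDerFamily N δ) (hδ' : IsDerFamily N δ')
    (h : ∀ (U : S.Opens) (t : Γ(E, U)) (t' : Γ(A.spec, A.π ⁻¹ᵁ U)),
      A.gammaMap.app (op U) t' = j.app U t → δ U t' = δ' U t') : δ = δ' := by
  let B := sqAlg A.π N hN
  haveI hI : IsIso A.gammaMap := RelSpecX.isIso_gammaMap A
  let g := inv A.gammaMap
  have hgg : ∀ (U : S.Opens) a, A.gammaMap.app (op U) (g.app (op U) a) = a :=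
    fun U a => congr($(congrArg (fun k => NatTrans.app k (op U)) (@IsIso.inv_hom_id _ _ _ _ A.gammaMap hI)) a)
  have hgg' : ∀ (U : S.Opens) (a : Γ(A.spec, A.π ⁻¹ᵁ U)), g.app (op U) (A.gammaMap.app (op U) a) = a :=
    fun U a => congr($(congrArg (fun k => NatTrans.app k (op U)) (@IsIso.hom_inv_id _ _ _ _ A.gammaMap hI)) a)
  let mk : ∀ (ε : ∀ U : S.Opens, Γ(A.spec, A.π ⁻¹ᵁ U) →+ Γ(N, A.π ⁻¹ᵁ U)), IsDerFamily N ε → (A ⟶ B) :=
    fun ε hε =>
    let Φ : ∀ U : S.Opens, Γ(A.spec, A.π ⁻¹ᵁ U) →+* SqExt Γ(A.spec, A.π ⁻¹ᵁ U) Γ(N, A.π ⁻¹ᵁ U) := fun U =>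
      { toFun := fun a => ⟨a, ε U a⟩
        map_zero' := SqExt.ext rfl (map_zero (ε U))
        map_one' := SqExt.ext rfl (by
          show ε U 1 = 0
          have := hε.1 U 1 1
          rw [mul_one, one_smul] at this
          exact add_eq_right.1 this.symm)
        map_add' := fun a b => SqExt.ext rfl (map_add (ε U) a b)
        map_mul' := fun a b => SqExt.ext rfl (hε.1 U a b) }
    ⟨{ app := fun U => g.app U ≫ CommRingCat.ofHom (Φ U.unop)
       naturality := fun U V i => by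
         ext a
         refine SqExt.ext ?_ ?_
         · exact congr($(g.naturality i) a)
         · show ε V.unop (g.app V (A.presheaf.map i a)) = N.presheaf.map _ (ε U.unop (g.app U a))
           refine (congrArg (ε V.unop) congr($(g.naturality i) a)).trans ?_
           exact hε.2.2 U.unop V.unop i.unop.le (g.app U a) },
      by
        ext U c
        have he : g.app (op U) (A.str.app (op U) c) = A.π.app U c := by
          rw [← hgg' U (A.π.app U c)]
          exact congrArg (g.app (op U)).hom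
            congr($(congrArg (fun k => NatTrans.app k (op U)) A.π_c_gammaMap) c).symm
        show Φ U (g.app (op U) (A.str.app (op U) c)) = SqExt.inl (A.π.app U c)
        rw [he]
        exact SqExt.ext rfl (hε.2.1 U c)⟩
  have he : mk δ hδ = mk δ' hδ' := by
    refine (hA B (j ≫ RelSpec.QCAlg.Hom.toModuleMap (mk δ hδ))).unique rfl ?_
    refine Scheme.Modules.hom_ext _ _ fun U => ?_
    ext t
    exact SqExt.ext rfl (h U t _ (hgg U (j.app U t))).symm
  funext U
  refine AddMonoidHom.ext fun a => ?_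
  have h1 := congr($(congrArg (fun k => NatTrans.app (RelSpec.QCAlg.Hom.hom k) (op U)) he) (A.gammaMap.app (op U) a))
  have h2 : δ U (g.app (op U) (A.gammaMap.app (op U) a)) = δ' U (g.app (op U) (A.gammaMap.app (op U) a)) :=
    congrArg SqExt.snd h1
  rwa [hgg' U a] at h2

end Der

end Groth.Agent.SymOmega
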