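import Groth.Agent.SymOmega.SqAlg
import Groth.Agent.SymOmega.Sections
import Groth.Agent.PPSheaf.PBC
import Groth.Agent.QCoh.PullbackBC

/-!
# The differentials of a vector bundle
-/

set_option autoImplicit false

universe u

open CategoryTheory CategoryTheory.Limits AlgebraicGeometry TopologicalSpace Opposite

namespace Groth.Agent.SymOmega

variable {S : Scheme.{u}} {A : RelSpec.QCAlg S}

theorem isDerFamily_app {Ω' : A.spec.Modules} (d : OmegaSh.Der A.π Ω') :
    IsDerFamily Ω' (fun U => d.app (A.π ⁻¹ᵁ U)) :=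
  ⟨fun _ a b => d.d_mul a b, fun U c => d.d_app (X := op U) c,
    fun _ _ h a => d.d_map (homOfLE (A.π.preimage_mono h)).op a⟩

theorem isDerFamily_comp {N N' : A.spec.Modules} (f : N ⟶ N')
    {δ : ∀ U : S.Opens, Γ(A.spec, A.π ⁻¹ᵁ U) →+ Γ(N, A.π ⁻¹ᵁ U)} (hδ : IsDerFamily N δ) :
    IsDerFamily N' (fun U => (f.app (A.π ⁻¹ᵁ U)).hom.comp (δ U)) := by
  refine ⟨fun U a b => ?_, fun U c => ?_, fun U V h a => ?_⟩
  · show f.app _ (δ U (a * b)) = a • f.app _ (δ U b) + b • f.app _ (δ U a)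
    rw [hδ.1, map_add, Scheme.Modules.Hom.app_smul, Scheme.Modules.Hom.app_smul]
  · show f.app _ (δ U _) = 0
    rw [hδ.2.1, map_zero]
  · show f.app _ (δ V _) = _
    rw [hδ.2.2 U V h a]
    exact congr($(f.mapPresheaf.naturality (homOfLE (A.π.preimage_mono h)).op) (δ U a))

theorem bijective_app_preimage {E : S.Modules} (hE : Coh.IsQCoh E) {j : E ⟶ A.toModule}
    (hA : RelSpec.IsSymAlg E A j) {Ω' : A.spec.Modules} {d : OmegaSh.Der A.π Ω'}
    (hd : OmegaSh.IsUniversal d) (φ : (Scheme.Modules.pullback A.π).obj E ⟶ Ω')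
    (hφ : ∀ (U : S.Opens) (t : Γ(E, U)) (t' : Γ(A.spec, A.π ⁻¹ᵁ U)),
      A.gammaMap.app (op U) t' = j.app U t →
        φ.app (A.π ⁻¹ᵁ U) (OmegaSh.pullSect A.π E U t) = d.app (A.π ⁻¹ᵁ U) t')
    {U : S.Opens} (hU : IsAffineOpen U) : Function.Bijective (φ.app (A.π ⁻¹ᵁ U)) := by
  let N := (Scheme.Modules.pullback A.π).obj E
  have hN : Coh.IsQCoh N := QCoh.isQCoh_pullback A.π hE
  have hΩ : Coh.IsQCoh Ω' := Synt29.OmegaStalk.isQCoh_of_isUniversal hd
  obtain ⟨δ, hδ, hδj⟩ := exists_derFamily N hA hN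
    ((Scheme.Modules.pullbackPushforwardAdjunction A.π).unit.app E)
  -- `d` factors through `δ`
  have key : ∀ (W : S.Opens) a, φ.app (A.π ⁻¹ᵁ W) (δ W a) = d.app (A.π ⁻¹ᵁ W) a := fun W a => by
    have h := derFamily_unique Ω' hA hΩ (isDerFamily_comp φ hδ) (isDerFamily_app d)
      (fun V t t' ht => (congrArg (φ.app _) (hδj V t t' ht)).trans (hφ V t t' ht))
    exact congr($(congrFun h W) a)
  let W := A.π ⁻¹ᵁ U
  have hW : IsAffineOpen W := hU.preimage A.π
  let _ := (A.π.appLE U W le_rfl).hom.toAlgebra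
  have halg : ∀ c, algebraMap Γ(S, U) Γ(A.spec, W) c = A.π.app U c := fun c =>
    congr($(A.π.app_eq_appLE.symm) c)
  obtain ⟨l, hl⟩ := exists_linearEquiv_D hd hW hU le_rfl
  let _ : Module Γ(S, U) Γ(N, W) := Module.compHom _ (algebraMap Γ(S, U) Γ(A.spec, W))
  haveI : IsScalarTower Γ(S, U) Γ(A.spec, W) Γ(N, W) :=
    IsScalarTower.of_algebraMap_smul fun _ _ => rfl
  let δL : Γ(A.spec, W) →ₗ[Γ(S, U)] Γ(N, W) :=
    { toFun := δ U
      map_add' := map_add (δ U)
      map_smul' := fun c a => by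
        show δ U (c • a) = c • δ U a
        rw [Algebra.smul_def, halg, hδ.1, hδ.2.1, smul_zero, add_zero, ← halg, algebraMap_smul] }
  let D' : Derivation Γ(S, U) Γ(A.spec, W) Γ(N, W) := Derivation.mk' δL (hδ.1 U)
  let φW : Γ(N, W) →ₗ[Γ(A.spec, W)] Γ(Ω', W) :=
    { toFun := φ.app W
      map_add' := map_add (φ.app W).hom
      map_smul' := fun c m => Scheme.Modules.Hom.app_smul φ c m }
  let r : Γ(Ω', W) →ₗ[Γ(A.spec, W)] Γ(N, W) := D'.liftKaehlerDifferential.comp l.toLinearMap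
  refine ⟨fun m₁ m₂ hm => ?_, fun y => ?_⟩
  · suffices hr : ∀ m, r (φW m) = m from
      (hr m₁).symm.trans ((congrArg r hm).trans (hr m₂))
    intro m
    let l0 : Γ(E, U) →ₗ[Γ(S, U)] Γ(N, W) :=
      { toFun := QCoh.pullSec A.π E (le_refl W)
        map_add' := QCoh.pullSec_add A.π E le_rfl
        map_smul' := fun c x => (QCoh.pullSec_smul A.π E le_rfl c x).trans rfl }
    have hb := QCoh.isBaseChange_pullback hU A.π hW hE le_rfl (fun _ => rfl) l0 (fun _ => rfl)
    induction m using IsTensorProduct.inductionOn hb with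
    | zero => rw [map_zero, map_zero]
    | tmul a t =>
      show r (φW (a • l0 t)) = a • l0 t
      rw [map_smul, map_smul]
      congr 1
      have h0 : l0 t = ((Scheme.Modules.pullbackPushforwardAdjunction A.π).unit.app E).app U t := by
        show N.presheaf.map (homOfLE le_rfl).op _ = _
        exact congr($(N.presheaf.map_id _) _)
      obtain ⟨t', ht'⟩ := (gammaMap_bijective (A := A) U).2 (j.app U t)
      have h2 : φW (l0 t) = d.app W t' := by rw [h0]; exact hφ U t t' ht'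
      rw [h2]
      show D'.liftKaehlerDifferential (l (d.app W t')) = _
      rw [hl, Derivation.liftKaehlerDifferential_comp_D]
      exact (hδj U t t' ht').trans h0.symm
    | add x y hx hy => rw [map_add, map_add, hx, hy]
  · have hmem : l y ∈ LinearMap.range (l.toLinearMap.comp φW) := by
      have hle : Submodule.span Γ(A.spec, W) (Set.range (KaehlerDifferential.D Γ(S, U) Γ(A.spec, W))) ≤
          LinearMap.range (l.toLinearMap.comp φW) := by
        refine Submodule.span_le.2 ?_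
        rintro _ ⟨b, rfl⟩
        exact ⟨δ U b, (congrArg l (key U b)).trans (hl b)⟩
      rw [KaehlerDifferential.span_range_derivation] at hle
      exact hle Submodule.mem_top
    obtain ⟨m, hm⟩ := hmem
    exact ⟨m, l.injective hm⟩

end Groth.Agent.SymOmega
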